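import Groth.Agent.Lib.Helper5.AlgSp.SchKer
import Mathlib

/-!
# Descent of ideal sheaves (closed subschemes) along flat quasi-compact morphisms
-/

set_option autoImplicit false

universe u

open CategoryTheory CategoryTheory.Limits AlgebraicGeometry Opposite

namespace Groth.Agent.H3.IdealDesc

open Scheme.IdealSheafData

/-- For `g : S' ⟶ S` flat and quasi-compact and a closed subscheme `Z' ⊆ S'` with
`p₁⁻¹ Z' ⊆ p₂⁻¹ Z'` in `S' ×_S S'`, the preimage of the scheme theoretic image of `Z'` in `S`
is `Z'`. -/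
theorem comap_map_eq_of_le {S S' : Scheme.{u}} (g : S' ⟶ S) [Flat g] [QuasiCompact g]
    (J' : S'.IdealSheafData)
    (h : J'.comap (pullback.snd g g) ≤ J'.comap (pullback.fst g g)) :
    (J'.map g).comap g = J' := by
  apply le_antisymm (comap_map_le _ _)
  set ι' := J'.subschemeι with hι'
  have sqP := IsPullback.of_hasPullback (ι' ≫ g) g
  have hker : (pullback.snd (ι' ≫ g) g).ker = (ι' ≫ g).ker.comap g :=
    Groth.Agent.H5.AlgSp.ker_eq_comap_of_isPullback sqP
  let m : pullback (ι' ≫ g) g ⟶ pullback g g :=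
    pullback.lift (pullback.fst (ι' ≫ g) g ≫ ι') (pullback.snd (ι' ≫ g) g)
      (by rw [Category.assoc, pullback.condition])
  have hm1 : m ≫ pullback.fst g g = pullback.fst (ι' ≫ g) g ≫ ι' := pullback.lift_fst _ _ _
  have hm2 : m ≫ pullback.snd g g = pullback.snd (ι' ≫ g) g := pullback.lift_snd _ _ _
  have sq3 : IsPullback m (pullback.fst (ι' ≫ g) g) (pullback.fst g g) ι' := by
    refine IsPullback.of_right ?_ hm1 (IsPullback.of_hasPullback g g).flip
    rw [hm2]
    exact sqP.flip
  have hmker : m.ker = J'.comap (pullback.fst g g) := by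
    have e : m = sq3.isoPullback.hom ≫ pullback.fst (pullback.fst g g) ι' :=
      (sq3.isoPullback_hom_fst).symm
    rw [e, Scheme.Hom.ker_comp_of_isIso]
    rfl
  have h5 : (pullback.snd (ι' ≫ g) g).ker = (J'.comap (pullback.fst g g)).map (pullback.snd g g) := by
    rw [← hm2, Scheme.Hom.ker_comp, hmker]
  calc J' ≤ (J'.comap (pullback.snd g g)).map (pullback.snd g g) := le_map_comap _ _
    _ ≤ (J'.comap (pullback.fst g g)).map (pullback.snd g g) := map_mono _ h
    _ = (pullback.snd (ι' ≫ g) g).ker := h5.symm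
    _ = (J'.map g).comap g := hker

end Groth.Agent.H3.IdealDesc
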