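import Mathlib

/-!
# Integrality descends along faithfully flat ring maps
-/

set_option autoImplicit false

universe u

open TensorProduct

namespace Groth.Agent.H3.FpqcDesc

theorem isIntegral_of_tensorProduct_of_faithfullyFlat {R S T : Type u} [CommRing R] [CommRing S]
    [CommRing T] [Algebra R S] [Algebra R T] [Module.FaithfullyFlat R S]
    (H : (algebraMap S (S ⊗[R] T)).IsIntegral) : (algebraMap R T).IsIntegral := by
  intro t
  change IsIntegral R t
  let T₀ : Subalgebra R T := Algebra.adjoin R {t}
  let t' : T₀ := ⟨t, Algebra.subset_adjoin (Set.mem_singleton t)⟩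
  let x : S ⊗[R] T₀ := 1 ⊗ₜ t'
  -- the comparison map is injective
  let j : S ⊗[R] T₀ →ₐ[S] S ⊗[R] T := Algebra.TensorProduct.map (AlgHom.id S S) T₀.val
  have hj : Function.Injective j := by
    have h1 : Function.Injective (LinearMap.lTensor S T₀.val.toLinearMap) :=
      Module.Flat.lTensor_preserves_injective_linearMap _ Subtype.val_injective
    intro a b hab
    apply h1
    have e : ∀ z : S ⊗[R] T₀, j z = LinearMap.lTensor S T₀.val.toLinearMap z := by
      intro z
      induction z using TensorProduct.induction_on with
      | zero => simp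
      | tmul s y => simp [j]
      | add a b ha hb => rw [map_add, map_add, ha, hb]
    rw [← e, ← e, hab]
  have hx : IsIntegral S x := by
    rw [← isIntegral_algHom_iff j hj]
    exact H (j x)
  -- `x` generates
  have htop : Algebra.adjoin S {x} = ⊤ := by
    rw [eq_top_iff]
    intro z _
    induction z using TensorProduct.induction_on with
    | zero => exact Subalgebra.zero_mem _
    | add a b ha hb => exact Subalgebra.add_mem _ (ha trivial) (hb trivial)
    | tmul s y =>
      have hy : (y : T) ∈ (Polynomial.aeval t : Polynomial R →ₐ[R] T).range := by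
        rw [← Algebra.adjoin_singleton_eq_range_aeval]
        exact y.2
      obtain ⟨p, hp⟩ := hy
      have hy' : y = Polynomial.aeval t' p := by
        apply Subtype.ext
        rw [← hp]
        change _ = T₀.val (Polynomial.aeval t' p)
        rw [← Polynomial.aeval_algHom_apply]
        rfl
      have h1 : (1 : S) ⊗ₜ[R] y = Polynomial.aeval x (p.map (algebraMap R S)) := by
        rw [Polynomial.aeval_map_algebraMap, hy']
        change (Algebra.TensorProduct.includeRight : T₀ →ₐ[R] S ⊗[R] T₀) (Polynomial.aeval t' p) = _
        rw [← Polynomial.aeval_algHom_apply]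
        rfl
      have h2 : (1 : S) ⊗ₜ[R] y ∈ Algebra.adjoin S {x} := by
        rw [h1, Algebra.adjoin_singleton_eq_range_aeval]
        exact ⟨_, rfl⟩
      have h3 : s ⊗ₜ[R] y = s • ((1 : S) ⊗ₜ[R] y) := by
        rw [TensorProduct.smul_tmul', smul_eq_mul, mul_one]
      rw [h3]
      exact Subalgebra.smul_mem _ h2 s
  have hfin : Module.Finite S (S ⊗[R] T₀) := by
    have h1 := hx.fg_adjoin_singleton
    rw [htop] at h1
    exact ⟨by simpa using h1⟩
  have hfin' : Module.Finite R T₀ := Module.Finite.of_finite_tensorProduct_of_faithfullyFlat S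
  have ht' : IsIntegral R t' := IsIntegral.of_finite R t'
  exact ht'.map T₀.val

theorem codescendsAlong_isIntegral :
    RingHom.CodescendsAlong (fun f => f.IsIntegral) RingHom.FaithfullyFlat := by
  refine .mk _ RingHom.isIntegral_respectsIso fun R S T _ _ _ _ _ h h' => ?_
  rw [RingHom.faithfullyFlat_algebraMap_iff] at h
  exact isIntegral_of_tensorProduct_of_faithfullyFlat h'

end Groth.Agent.H3.FpqcDesc
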