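import Mathlib

/-!
# Finite disjoint unions of quasi-affine schemes are quasi-affine (helper3)
-/

set_option autoImplicit false

universe u

open CategoryTheory CategoryTheory.Limits AlgebraicGeometry Opposite

namespace Groth.Agent.H3.QASigma

/-- A finite coproduct of quasi-affine schemes is quasi-affine. -/
theorem isQuasiAffine_sigma {σ : Type u} [Finite σ] (A : σ → Scheme.{u})
    [∀ j, (A j).IsQuasiAffine] : (∐ A).IsQuasiAffine := by
  have hc : CompactSpace ↥(∐ A) := by
    have : Finite (sigmaOpenCover A).I₀ := inferInstanceAs (Finite σ)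
    have : ∀ i, CompactSpace ((sigmaOpenCover A).X i) := fun i =>
      inferInstanceAs (CompactSpace (A i))
    exact (sigmaOpenCover A).compactSpace
  let B : σ → Scheme.{u} := fun j => Spec Γ(A j, ⊤)
  let α : ∀ j, A j ⟶ ∐ B := fun j => (A j).toSpecΓ ≫ Sigma.ι B j
  have hα : ∀ j, IsOpenImmersion (α j) := fun j => by
    dsimp only [α]
    infer_instance
  have hφ : IsOpenImmersion (Sigma.desc α) := by
    refine isOpenImmersion_sigmaDesc A α ?_
    intro i j hij
    have hd := disjoint_opensRange_sigmaι B i j hij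
    rw [Function.onFun_apply]
    refine Set.disjoint_of_subset ?_ ?_
      (show Disjoint (Set.range (Sigma.ι B i)) (Set.range (Sigma.ι B j)) from ?_)
    · rintro _ ⟨x, rfl⟩
      exact ⟨(A i).toSpecΓ x, by simp [α]⟩
    · rintro _ ⟨x, rfl⟩
      exact ⟨(A j).toSpecΓ x, by simp [α]⟩
    · rw [Set.disjoint_iff_inter_eq_empty]
      have h := hd.eq_bot
      have h' := congrArg (fun U : (∐ B).Opens => (U : Set ↥(∐ B))) h
      simpa using h'
  have : ∀ j, IsAffine (B j) := fun j => inferInstanceAs (IsAffine (Spec Γ(A j, ⊤)))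
  have : IsAffine (∐ B) := inferInstance
  exact Scheme.IsQuasiAffine.of_isImmersion (Sigma.desc α)

/-- A scheme over a finite disjoint union whose pieces are quasi-affine is quasi-affine. -/
theorem isQuasiAffine_of_sigma {σ : Type u} [Finite σ] (g : σ → Scheme.{u}) {V : Scheme.{u}}
    (v : V ⟶ ∐ g) (A : σ → Scheme.{u}) (a : ∀ j, A j ⟶ V) (b : ∀ j, A j ⟶ g j)
    (sq : ∀ j, IsPullback (a j) (b j) v (Sigma.ι g j)) [∀ j, (A j).IsQuasiAffine] :
    V.IsQuasiAffine := by
  have ha : ∀ j, IsOpenImmersion (a j) := fun j =>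
    MorphismProperty.of_isPullback (P := @IsOpenImmersion) (sq j).flip inferInstance
  have hrange : ∀ j, Set.range (a j) = v ⁻¹' Set.range (Sigma.ι g j) := by
    intro j
    have h1 : a j = (sq j).isoPullback.hom ≫ pullback.fst v (Sigma.ι g j) := by simp
    have h2 : Set.range (sq j).isoPullback.hom = Set.univ :=
      Set.range_eq_univ.2 (sq j).isoPullback.hom.homeomorph.surjective
    rw [h1, Scheme.Hom.comp_base, TopCat.coe_comp, Set.range_comp, h2, Set.image_univ,
      Scheme.Pullback.range_fst]
  have hcov : ⨆ j, (a j).opensRange = ⊤ := by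
    rw [eq_top_iff]
    intro x _
    obtain ⟨j, y, hy⟩ := (sigmaOpenCover g).exists_eq (v x)
    rw [TopologicalSpace.Opens.mem_iSup]
    refine ⟨j, ?_⟩
    change x ∈ Set.range (a j)
    rw [hrange]
    exact ⟨y, hy⟩
  have hdisj : Pairwise (Function.onFun Disjoint (fun j => (a j).opensRange)) := by
    intro i j hij
    rw [Function.onFun_apply, disjoint_iff]
    ext x
    simp only [TopologicalSpace.Opens.coe_inf, Scheme.Hom.coe_opensRange,
      TopologicalSpace.Opens.coe_bot, Set.mem_inter_iff, Set.mem_empty_iff_false, iff_false,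
      not_and]
    intro hi hj
    rw [hrange] at hi hj
    have hd := disjoint_opensRange_sigmaι g i j hij
    exact (hd.le_bot : _ ≤ _) (show v x ∈ (Sigma.ι g i).opensRange ⊓ (Sigma.ι g j).opensRange
      from ⟨hi, hj⟩)
  obtain ⟨hcol⟩ := nonempty_isColimit_cofanMk_of a hcov hdisj
  let e : V ≅ ∐ A := hcol.coconePointUniqueUpToIso (colimit.isColimit _)
  have := isQuasiAffine_sigma A
  exact Scheme.IsQuasiAffine.of_isAffineHom e.hom

end Groth.Agent.H3.QASigma
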