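import Groth.Agent.Lib.Helper5.AlgSp.SchKer
import Mathlib

/-!
# Quasi-compact immersions of schemes descend along fpqc coverings (helper3)
-/

set_option autoImplicit false

universe u

open CategoryTheory CategoryTheory.Limits AlgebraicGeometry Opposite

namespace Groth.Agent.H3.QcImm

variable {U T U' T' : Scheme.{u}} {g : U ⟶ T} {c : T' ⟶ T} {g' : U' ⟶ T'} {c' : U' ⟶ U}

/-- Quasi-compactness descends along surjective quasi-compact morphisms. -/
theorem quasiCompact_of_isPullback (sq : IsPullback c' g' g c) [Surjective c] [QuasiCompact c]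
    [QuasiCompact g'] : QuasiCompact g := by
  have hc' : Surjective c' := MorphismProperty.of_isPullback (P := @Surjective) sq.flip inferInstance
  refine ⟨fun V hV hVc => ?_⟩
  have h1 : IsCompact (c ⁻¹' V) := QuasiCompact.isCompact_preimage V hV hVc
  have h2 : IsCompact (g' ⁻¹' (c ⁻¹' V)) :=
    QuasiCompact.isCompact_preimage _ (hV.preimage c.continuous) h1
  have : g ⁻¹' V = c' '' (g' ⁻¹' (c ⁻¹' V)) := by
    ext x
    constructor
    · intro hx
      obtain ⟨y, rfl⟩ := c'.surjective x
      refine ⟨y, ?_, rfl⟩
      change c (g' y) ∈ V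
      rw [← Scheme.Hom.comp_apply, ← sq.w, Scheme.Hom.comp_apply]
      exact hx
    · rintro ⟨y, hy, rfl⟩
      change g (c' y) ∈ V
      rw [← Scheme.Hom.comp_apply, sq.w, Scheme.Hom.comp_apply]
      exact hy
  rw [this]
  exact h2.image c'.continuous

/-- Immersions with quasi-compact source morphism descend along fpqc coverings. -/
theorem isImmersion_of_isPullback_fpqc (sq : IsPullback c' g' g c) [QuasiCompact g] [Flat c]
    [Surjective c] [QuasiCompact c] [IsImmersion g'] : IsImmersion g := by
  have hg'qc : QuasiCompact g' :=
    MorphismProperty.of_isPullback (P := @QuasiCompact) sq inferInstance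
  let h : U' ⟶ pullback c g.imageι := pullback.lift g' (c' ≫ g.toImage) (by
    rw [Category.assoc, Scheme.Hom.toImage_imageι, sq.w])
  have hfst : h ≫ pullback.fst c g.imageι = g' := pullback.lift_fst _ _ _
  have hsnd : h ≫ pullback.snd c g.imageι = c' ≫ g.toImage := pullback.lift_snd _ _ _
  have left : IsPullback h c' (pullback.snd c g.imageι) g.toImage := by
    apply IsPullback.of_right (h₁₂ := pullback.fst c g.imageι) (h₂₂ := g.imageι) _ hsnd
      (IsPullback.of_hasPullback c g.imageι)
    rw [hfst, Scheme.Hom.toImage_imageι]
    exact sq.flip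
  have : IsSchemeTheoreticallyDominant h := IsSchemeTheoreticallyDominant.of_isPullback left.flip
  have himm : IsImmersion h := by
    have : IsImmersion (h ≫ pullback.fst c g.imageι) := by rw [hfst]; infer_instance
    exact IsImmersion.of_comp h (pullback.fst c g.imageι)
  have hqc : QuasiCompact h := by
    have : QuasiCompact (h ≫ pullback.fst c g.imageι) := by rw [hfst]; infer_instance
    exact QuasiCompact.of_comp h (pullback.fst c g.imageι)
  have hopen : IsOpenImmersion h := by
    have : IsIso h.imageι := by
      delta Scheme.Hom.imageι Scheme.Hom.image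
      rw [h.ker_eq_bot]
      infer_instance
    rw [← h.toImage_imageι]
    infer_instance
  have hsndP : (@Surjective ⊓ @Flat ⊓ @QuasiCompact : MorphismProperty Scheme.{u})
      (pullback.snd c g.imageι) :=
    ⟨⟨MorphismProperty.pullback_snd (P := @Surjective) _ _ inferInstance,
      MorphismProperty.pullback_snd (P := @Flat) _ _ inferInstance⟩,
      MorphismProperty.pullback_snd (P := @QuasiCompact) _ _ inferInstance⟩
  have : IsOpenImmersion g.toImage :=
    MorphismProperty.of_isPullback_of_descendsAlong (P := @IsOpenImmersion) left hsndP hopen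
  rw [← g.toImage_imageι]
  infer_instance

/-- **Quasi-compact immersions descend along fpqc coverings.** -/
instance descendsAlong_isImmersion_inf_quasiCompact :
    (@IsImmersion ⊓ @QuasiCompact : MorphismProperty Scheme.{u}).DescendsAlong
      (@Surjective ⊓ @Flat ⊓ @QuasiCompact) where
  of_isPullback {A X Y Z fst snd f g} h hf hfst := by
    have : Surjective f := hf.1.1
    have : Flat f := hf.1.2
    have : QuasiCompact f := hf.2
    have : IsImmersion fst := hfst.1
    have : QuasiCompact fst := hfst.2
    have hqc : QuasiCompact g := quasiCompact_of_isPullback h.flip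
    exact ⟨isImmersion_of_isPullback_fpqc h.flip, hqc⟩

end Groth.Agent.H3.QcImm
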