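import Groth.Agent.Lib.Helper3.Desc.FpqcAffineRing
import Mathlib

/-!
# Effective fpqc descent of affine schemes over an algebraic space (scheme form)
-/

set_option autoImplicit false

universe u

open CategoryTheory CategoryTheory.Limits AlgebraicGeometry Opposite TensorProduct

namespace Groth.Agent.H3.FpqcDesc

open _root_.AlgSp Groth.Agent.H5.AlgSp Groth.Agent.H5.Descent

variable {S : Scheme.{u}}

lemma respectsIso_conj {Q : ∀ {R T : Type u} [CommRing R] [CommRing T], (R →+* T) → Prop}
    (hQ : RingHom.RespectsIso Q) {R₁ R₂ R₃ R₄ : CommRingCat.{u}} (a : R₁ ⟶ R₂) (f : R₂ ⟶ R₃)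
    (b : R₃ ⟶ R₄) [IsIso a] [IsIso b] : Q (a ≫ f ≫ b).hom ↔ Q f.hom := by
  rw [CommRingCat.hom_comp, hQ.cancel_left_isIso, CommRingCat.hom_comp, hQ.cancel_right_isIso]

/-- Affine schemes `T`, `T'`, `W'`; `c : T' ⟶ T` faithfully flat; `F` an algebraic space over `T`
whose base change to `T'` is `W'`.  Then `F` is an affine scheme `W`, and ring theoretic properties
of `W' ⟶ T'` which descend along faithfully flat ring maps hold for `W ⟶ T`. -/
theorem exists_descent_of_isAffine_fpqc {T T' W' : Over S} [IsAffine T.left] [IsAffine T'.left]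
    [IsAffine W'.left] (c : T' ⟶ T) (v : W' ⟶ T') [Flat c.left] [Surjective c.left]
    {F : Sp S} (hF : IsAlgSpace F) (π : F ⟶ (yon S).obj T)
    (u : (yon S).obj W' ⟶ F) (sq : IsPullback u ((yon S).map v) π ((yon S).map c)) :
    ∃ (W : Over S) (w : W ⟶ T) (e : (yon S).obj W ≅ F),
      IsAffine W.left ∧ e.hom ≫ π = (yon S).map w ∧
      ∀ (Q : ∀ {R T : Type u} [CommRing R] [CommRing T], (R →+* T) → Prop),
        RingHom.RespectsIso Q → RingHom.CodescendsAlong Q RingHom.FaithfullyFlat →
        Q v.left.appTop.hom → Q w.left.appTop.hom := by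
  let A : Type u := Γ(T.left, ⊤)
  let A' : Type u := Γ(T'.left, ⊤)
  let B' : Type u := Γ(W'.left, ⊤)
  let φ : A →+* A' := c.left.appTop.hom
  let ψ : A' →+* B' := v.left.appTop.hom
  let _ : Algebra A A' := φ.toAlgebra
  let _ : Algebra A' B' := ψ.toAlgebra
  let _ : Algebra A B' := (ψ.comp φ).toAlgebra
  have : IsScalarTower A A' B' := IsScalarTower.of_algebraMap_eq (fun _ => rfl)
  have hflat : φ.Flat := by
    have h : Flat c.left := inferInstance
    rw [HasRingHomProperty.iff_of_isAffine (P := @Flat)] at h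
    exact h
  have hsurj : Function.Surjective (PrimeSpectrum.comap φ) := by
    have h1 : Spec.map c.left.appTop = T'.left.isoSpec.inv ≫ c.left ≫ T.left.isoSpec.hom := by
      rw [← Category.assoc, ← Scheme.isoSpec_inv_naturality, Category.assoc, Iso.inv_hom_id,
        Category.comp_id]
    have h2 : Surjective (Spec.map c.left.appTop) := by
      rw [h1]; infer_instance
    exact h2.surj
  have hff : φ.FaithfullyFlat := RingHom.FaithfullyFlat.iff_flat_and_comap_surjective.2
    ⟨hflat, hsurj⟩
  have : Module.FaithfullyFlat A A' := hff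
  let str : Spec (.of A) ⟶ S := T.left.isoSpec.inv ≫ T.hom
  have hidA : Spec.map (CommRingCat.ofHom (algebraMap A A)) = 𝟙 _ := by
    rw [Algebra.algebraMap_self]
    exact Spec.map_id _
  let eT : specOver str A ≅ T := Over.isoMk T.left.isoSpec.symm (by
    change T.left.isoSpec.inv ≫ T.hom = Spec.map (CommRingCat.ofHom (algebraMap A A)) ≫ str
    rw [hidA, Category.id_comp])
  let eT' : specOver str A' ≅ T' := Over.isoMk T'.left.isoSpec.symm (by
    change T'.left.isoSpec.inv ≫ T'.hom = Spec.map (CommRingCat.ofHom (algebraMap A A')) ≫ str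
    have h1 : Spec.map (CommRingCat.ofHom (algebraMap A A')) ≫ T.left.isoSpec.inv =
        T'.left.isoSpec.inv ≫ c.left := Scheme.isoSpec_inv_naturality c.left
    rw [← Category.assoc, h1, Category.assoc, Over.w c])
  let eW' : specOver str B' ≅ W' := Over.isoMk W'.left.isoSpec.symm (by
    change W'.left.isoSpec.inv ≫ W'.hom = Spec.map (CommRingCat.ofHom (algebraMap A B')) ≫ str
    have h1 : Spec.map (CommRingCat.ofHom (algebraMap A B')) ≫ T.left.isoSpec.inv =
        W'.left.isoSpec.inv ≫ (v ≫ c).left := by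
      have := Scheme.isoSpec_inv_naturality (v ≫ c).left
      rw [← this]
      congr 2
    rw [← Category.assoc, h1, Category.assoc, Over.w (v ≫ c)])
  have hc : eT'.hom ≫ c = specOverMap str (Algebra.ofId A A') ≫ eT.hom := by
    apply Over.OverMorphism.ext
    change T'.left.isoSpec.inv ≫ c.left = Spec.map _ ≫ T.left.isoSpec.inv
    exact (Scheme.isoSpec_inv_naturality c.left).symm
  have hv : eW'.hom ≫ v = specOverMap str (IsScalarTower.toAlgHom A A' B') ≫ eT'.hom := by
    apply Over.OverMorphism.ext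
    change W'.left.isoSpec.inv ≫ v.left = Spec.map _ ≫ T'.left.isoSpec.inv
    exact (Scheme.isoSpec_inv_naturality v.left).symm
  have sq' : IsPullback ((yon S).map eW'.hom ≫ u)
      ((yon S).map (specOverMap str (IsScalarTower.toAlgHom A A' B')))
      (π ≫ (yon S).map eT.inv) ((yon S).map (specOverMap str (Algebra.ofId A A'))) := by
    refine IsPullback.of_iso sq ((yon S).mapIso eW'.symm) (Iso.refl F) ((yon S).mapIso eT'.symm)
      ((yon S).mapIso eT.symm) ?_ ?_ ?_ ?_
    · simp
    · simp only [Functor.mapIso_hom, Iso.symm_hom]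
      rw [← Functor.map_comp, ← Functor.map_comp]
      congr 1
      rw [Iso.eq_inv_comp, ← Category.assoc, hv, Category.assoc, Iso.hom_inv_id, Category.comp_id]
    · simp
    · simp only [Functor.mapIso_hom, Iso.symm_hom]
      rw [← Functor.map_comp, ← Functor.map_comp]
      congr 1
      rw [Iso.eq_inv_comp, ← Category.assoc, hc, Category.assoc, Iso.hom_inv_id, Category.comp_id]
  obtain ⟨M, g, hg, hgπ, -, -, hQ⟩ := exists_descent_fpqc str hF sq'
  refine ⟨specOver str M, specOverMap str (Algebra.ofId A M) ≫ eT.hom, (asIso g).symm,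
    inferInstanceAs (IsAffine (Spec (.of M))), ?_, ?_⟩
  · change inv g ≫ π = _
    rw [IsIso.inv_comp_eq, Functor.map_comp, ← Category.assoc, hgπ, Category.assoc,
      ← Functor.map_comp, Iso.inv_hom_id, CategoryTheory.Functor.map_id, Category.comp_id]
  · intro Q hQ1 hQ2 hQv
    have h0 := hQ Q hQ1 hQ2 hQv
    have key : (specOverMap str (Algebra.ofId A M) ≫ eT.hom).left.appTop =
        (T.left.isoSpec.inv.appTop ≫ (Scheme.ΓSpecIso (.of A)).hom) ≫
          CommRingCat.ofHom (algebraMap A M) ≫ (Scheme.ΓSpecIso (.of M)).inv := by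
      have e1 : (specOverMap str (Algebra.ofId A M) ≫ eT.hom).left =
          Spec.map (CommRingCat.ofHom (algebraMap A M)) ≫ T.left.isoSpec.inv := rfl
      rw [e1, Scheme.Hom.comp_appTop, Category.assoc]
      congr 1
      rw [← Category.assoc, ← Scheme.ΓSpecIso_naturality, Category.assoc, Iso.hom_inv_id,
        Category.comp_id]
    rw [key]
    have hi0 : IsIso T.left.isoSpec.inv := inferInstance
    have hi1 : IsIso T.left.isoSpec.inv.appTop :=
      inferInstanceAs (IsIso (T.left.isoSpec.inv.app ⊤))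
    have hi2 : IsIso (T.left.isoSpec.inv.appTop ≫ (Scheme.ΓSpecIso (.of A)).hom) :=
      inferInstance
    exact (respectsIso_conj hQ1 _ _ _).2 h0

end Groth.Agent.H3.FpqcDesc
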