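import Groth.Agent.Lib.Helper3.Desc.FpqcHomDesc
import Groth.Agent.Lib.Helper3.AlgSpCov.IsoBase
import Groth.Agent.Lib.Helper3.AlgSpCov.QcFlatMono
import Groth.Agent.Lib.Helper5.Descent.AffineDescent
import Groth.Agent.Lib.Helper5.AlgSp.QCompact
import Groth.Agent.Lib.Helper5.AlgSp.LocPCalc
import Groth.Agent.Lib.Helper5.AlgSp.UnivHomeoSp
import Mathlib

/-!
# Effective fpqc descent of affine schemes over an algebraic space (ring form)
-/

set_option autoImplicit false

universe u

open CategoryTheory CategoryTheory.Limits AlgebraicGeometry Opposite TensorProduct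
  Algebra.TensorProduct

namespace Groth.Agent.H3.FpqcDesc

open _root_.AlgSp Groth.Agent.H5.AlgSp Groth.Agent.H5.Descent Groth.Agent.H3.AlgSpCov

variable {S : Scheme.{u}}

/-- A flat, surjective, quasi-compact morphism of schemes over `S` is an fpqc covering. -/
theorem isFpqcCover_single_yon_map {T T' : Over S} (k : T' ⟶ T) (h1 : Flat k.left)
    (h2 : Surjective k.left) (h3 : QuasiCompact k.left) :
    IsFpqcCover (fun _ : PUnit.{u + 1} => (yon S).obj T') (fun _ => (yon S).map k) := by
  refine isFpqcCover_single_of_qc_flat_surjective (IsAlgSpace.yon_obj _) (IsAlgSpace.yon_obj _) _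
    ?_ ?_ ?_
  · exact isQuasiCompactMor_of_repWith ((repWith_yon_map_iff @QuasiCompact k).2 h3)
  · exact (locP_yon_map_iff (P := @Flat) etale_le_flat k).2 h1
  · exact (surjective_points_map_yon_map_iff k).2 h2.surj

variable {A A' B' : Type u} [CommRing A] [CommRing A'] [CommRing B']
  [Algebra A A'] [Algebra A B'] [Algebra A' B'] [IsScalarTower A A' B']
  (str : Spec (.of A) ⟶ S) {F : Sp S}
  {π : F ⟶ (yon S).obj (specOver str A)} {u : (yon S).obj (specOver str B') ⟶ F}

/-- **Effective fpqc descent for affine schemes over an algebraic space, ring form.** -/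
theorem exists_descent_fpqc [Module.FaithfullyFlat A A'] (hF : IsAlgSpace F)
    (sq : IsPullback u ((yon S).map (specOverMap str (IsScalarTower.toAlgHom A A' B'))) π
      ((yon S).map (specOverMap str (Algebra.ofId A A')))) :
    ∃ (M : Subalgebra A B') (g : F ⟶ (yon S).obj (specOver str M)), IsIso g ∧
      g ≫ (yon S).map (specOverMap str (Algebra.ofId A M)) = π ∧
      u ≫ g = (yon S).map (specOverMap str M.val) ∧
      IsPullback (specOverMap str M.val) (specOverMap str (IsScalarTower.toAlgHom A A' B'))
        (specOverMap str (Algebra.ofId A M)) (specOverMap str (Algebra.ofId A A')) ∧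
      ∀ (Q : ∀ {R T : Type u} [CommRing R] [CommRing T], (R →+* T) → Prop),
        RingHom.RespectsIso Q → RingHom.CodescendsAlong Q RingHom.FaithfullyFlat →
        Q (algebraMap A' B') → Q (algebraMap A M) := by
  obtain ⟨θ, h1, hθu⟩ := exists_theta str sq
  have hext : ∀ {Z : Over S} (k l : Z ⟶ specOver str B'),
      (yon S).map k ≫ u = (yon S).map l ≫ u →
      k ≫ specOverMap str (IsScalarTower.toAlgHom A A' B') =
        l ≫ specOverMap str (IsScalarTower.toAlgHom A A' B') → k = l := by
    intro Z k l h h'
    apply (yon S).map_injective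
    apply sq.hom_ext h
    rw [← Functor.map_comp, ← Functor.map_comp, h']
  have hθL : θ.comp (IsScalarTower.toAlgHom A A' B') = (includeLeft : A' →ₐ[A] A' ⊗[A] B') := by
    ext a
    exact h1 a
  -- counit
  have h2 : ∀ b, counit A A' B' (θ b) = b := by
    have key : (counit A A' B').comp θ = AlgHom.id A B' := by
      apply specOverMap_injective str
      rw [specOverMap_comp, specOverMap_id]
      apply hext
      · rw [Functor.map_comp, Category.assoc, hθu, ← Category.assoc, ← Functor.map_comp,
          ← specOverMap_comp]
        have : (counit A A' B').comp (includeRight : B' →ₐ[A] A' ⊗[A] B') = AlgHom.id A B' := by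
          ext b; simp
        rw [this, specOverMap_id]
      · rw [Category.assoc, ← specOverMap_comp, hθL, ← specOverMap_comp, Category.id_comp]
        congr 1
        ext a
        simp
    intro b
    exact congrArg (fun f => f b) key
  -- coassociativity
  have h3 : ∀ b, map (AlgHom.id A A') θ (θ b) =
      map (AlgHom.id A A') (includeRight : B' →ₐ[A] A' ⊗[A] B') (θ b) := by
    have key : (map (AlgHom.id A A') θ).comp θ =
        (map (AlgHom.id A A') (includeRight : B' →ₐ[A] A' ⊗[A] B')).comp θ := by
      apply specOverMap_injective str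
      rw [specOverMap_comp, specOverMap_comp]
      apply hext
      · rw [Functor.map_comp, Functor.map_comp, Category.assoc, Category.assoc, hθu,
          ← Category.assoc, ← Category.assoc, ← Functor.map_comp, ← Functor.map_comp,
          ← specOverMap_comp, ← specOverMap_comp]
        have e1 : (map (AlgHom.id A A') θ).comp (includeRight : B' →ₐ[A] A' ⊗[A] B') =
            (includeRight : A' ⊗[A] B' →ₐ[A] A' ⊗[A] (A' ⊗[A] B')).comp θ := by
          ext b; simp
        have e2 : (map (AlgHom.id A A') (includeRight : B' →ₐ[A] A' ⊗[A] B')).comp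
            (includeRight : B' →ₐ[A] A' ⊗[A] B') =
            (includeRight : A' ⊗[A] B' →ₐ[A] A' ⊗[A] (A' ⊗[A] B')).comp
              (includeRight : B' →ₐ[A] A' ⊗[A] B') := by
          ext b; simp
        rw [e1, e2, specOverMap_comp, specOverMap_comp, Functor.map_comp, Functor.map_comp,
          Category.assoc, Category.assoc, hθu]
      · rw [Category.assoc, Category.assoc, ← specOverMap_comp, hθL, ← specOverMap_comp,
          ← specOverMap_comp]
        congr 1
        ext a
        simp
    intro b
    exact congrArg (fun f => f b) key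
  have hbij := descMul_bijective θ h1 h2 h3
  let M : Subalgebra A B' := descAlg θ
  let e : (A' ⊗[A] M) ≃ₐ[A] B' := AlgEquiv.ofBijective (descMul θ) hbij
  have hsymm : ∀ m : M, e.symm (m : B') = 1 ⊗ₜ m := by
    intro m
    rw [AlgEquiv.symm_apply_eq]
    change _ = descMul θ ((1 : A') ⊗ₜ[A] (m : descAlg θ))
    rw [descMul_tmul, map_one, one_mul]
  have hsymm' : ∀ a : A', e.symm (algebraMap A' B' a) = a ⊗ₜ 1 := by
    intro a
    rw [AlgEquiv.symm_apply_eq]
    change _ = descMul θ (a ⊗ₜ[A] (1 : descAlg θ))
    rw [descMul_tmul, OneMemClass.coe_one, mul_one]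
  have sqW : IsPullback (specOverMap str M.val)
      (specOverMap str (IsScalarTower.toAlgHom A A' B'))
      (specOverMap str (Algebra.ofId A M)) (specOverMap str (Algebra.ofId A A')) := by
    refine IsPullback.of_iso (isPullback_specOver_tensor str (R := A') (R' := M)).flip
      (specOverIso str e).symm (Iso.refl _) (Iso.refl _) (Iso.refl _) ?_ ?_ (by simp) (by simp)
    · change _ ≫ 𝟙 _ = specOverMap str e.symm.toAlgHom ≫ _
      rw [Category.comp_id, ← specOverMap_comp]
      congr 1
      ext m
      exact (hsymm m).symm
    · change _ ≫ 𝟙 _ = specOverMap str e.symm.toAlgHom ≫ _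
      rw [Category.comp_id, ← specOverMap_comp]
      congr 1
      ext a
      exact (hsymm' a).symm
  have hMeq : (specOverMap str θ) ≫ specOverMap str M.val =
      specOverMap str (includeRight : B' →ₐ[A] A' ⊗[A] B') ≫ specOverMap str M.val := by
    rw [← specOverMap_comp, ← specOverMap_comp]
    congr 1
    ext m
    exact m.2
  -- the coequalizing property of `Spec B' ⟶ Spec M`
  have hw : ∀ {T : Over S} (x₁ x₂ : T ⟶ specOver str B'),
      (yon S).map x₁ ≫ u = (yon S).map x₂ ≫ u →
      x₁ ≫ specOverMap str M.val = x₂ ≫ specOverMap str M.val := by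
    intro T x₁ x₂ hu
    have hP := isPullback_specOver_tensor str (R := A') (R' := B')
    have hw : (x₁ ≫ specOverMap str (IsScalarTower.toAlgHom A A' B')) ≫
        specOverMap str (Algebra.ofId A A') = x₂ ≫ specOverMap str (Algebra.ofId A B') := by
      apply (yon S).map_injective
      have e0 : specOverMap str (Algebra.ofId A B') =
          specOverMap str (IsScalarTower.toAlgHom A A' B') ≫
            specOverMap str (Algebra.ofId A A') := by
        rw [← specOverMap_comp]
        congr 1
        ext
      rw [e0]
      simp only [Functor.map_comp, Category.assoc]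
      rw [← sq.w, ← Category.assoc, hu, Category.assoc]
    let z := hP.lift (x₁ ≫ specOverMap str (IsScalarTower.toAlgHom A A' B')) x₂ hw
    have hz1 : z ≫ specOverMap str θ = x₁ := by
      apply hext
      · rw [Functor.map_comp, Category.assoc, hθu, ← Category.assoc, ← Functor.map_comp,
          hP.lift_snd, hu]
      · rw [Category.assoc, ← specOverMap_comp, hθL, hP.lift_fst]
    have hz2 : z ≫ specOverMap str (includeRight : B' →ₐ[A] A' ⊗[A] B') = x₂ := hP.lift_snd _ _ _
    rw [← hz1, ← hz2, Category.assoc, Category.assoc, hMeq]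
  -- instances for the cover `Spec A' ⟶ Spec A`
  have hff : (algebraMap A A').FaithfullyFlat :=
    RingHom.faithfullyFlat_algebraMap_iff.2 inferInstance
  have hc1 : Flat (specOverMap str (Algebra.ofId A A')).left := by
    change Flat (Spec.map (CommRingCat.ofHom (algebraMap A A')))
    rw [HasRingHomProperty.Spec_iff (P := @Flat)]
    exact (RingHom.FaithfullyFlat.iff_flat_and_comap_surjective.1 hff).1
  have hc2 : Surjective (specOverMap str (Algebra.ofId A A')).left := by
    change Surjective (Spec.map (CommRingCat.ofHom (algebraMap A A')))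
    exact ⟨(RingHom.FaithfullyFlat.iff_flat_and_comap_surjective.1 hff).2⟩
  have hc3 : QuasiCompact (specOverMap str (Algebra.ofId A A')).left := by
    change QuasiCompact (Spec.map (CommRingCat.ofHom (algebraMap A A')))
    infer_instance
  obtain ⟨g, hug⟩ := exists_desc_of_fpqc (specOverMap str (Algebra.ofId A A'))
    (specOverMap str (IsScalarTower.toAlgHom A A' B')) π u sq hF (specOverMap str M.val) hw
  have hgπ : g ≫ (yon S).map (specOverMap str (Algebra.ofId A M)) = π := by
    apply hom_ext_of_fpqc (specOverMap str (Algebra.ofId A A'))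
      (specOverMap str (IsScalarTower.toAlgHom A A' B')) π u sq hF
    rw [← Category.assoc, hug, sq.w, ← Functor.map_comp, ← Functor.map_comp, sqW.w]
  refine ⟨M, g, ?_, hgπ, hug, sqW, ?_⟩
  · -- `g` is an isomorphism
    have sqWy := sqW.map (yon S)
    have sqg : IsPullback u (𝟙 _) g ((yon S).map (specOverMap str M.val)) := by
      apply IsPullback.of_bot _ _ sqWy
      · rw [Category.id_comp, hgπ]
        exact sq
      · rw [Category.id_comp, hug]
    -- the cover `Spec B' ⟶ Spec M`
    have hk1 : Flat (specOverMap str M.val).left :=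
      MorphismProperty.of_isPullback (P := @Flat) (sqW.map (Over.forget S)).flip hc1
    have hk2 : Surjective (specOverMap str M.val).left :=
      MorphismProperty.of_isPullback (P := @Surjective) (sqW.map (Over.forget S)).flip hc2
    have hk3 : QuasiCompact (specOverMap str M.val).left :=
      MorphismProperty.of_isPullback (P := @QuasiCompact) (sqW.map (Over.forget S)).flip hc3
    have hcov := isFpqcCover_single_yon_map (specOverMap str M.val) hk1 hk2 hk3
    have hloc := isLocalOnBase_fpqc_isomorphisms (S := S)
      (fun _ : PUnit.{u + 1} => (yon S).obj (specOver str B'))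
      (fun _ => (yon S).map (specOverMap str M.val)) (IsAlgSpace.yon_obj _)
      (fun _ => IsAlgSpace.yon_obj _) hcov g hF
      (fun _ => (yon S).obj (specOver str B')) (fun _ => 𝟙 _) (fun _ => u)
      (fun _ => IsAlgSpace.yon_obj _) (fun _ => sqg)
    exact hloc.2 (fun _ => (inferInstance : IsIso (𝟙 _)))
  · intro Q hQ hQQ hQv
    refine hQQ.algebraMap_tensorProduct _ A A' M hff ?_
    have : algebraMap A' (A' ⊗[A] M) =
        (e.symm.toRingEquiv : B' ≃+* A' ⊗[A] M).toRingHom.comp (algebraMap A' B') := by
      ext a
      exact (hsymm' a).symm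
    rw [this]
    exact hQ.1 _ _ hQv

end Groth.Agent.H3.FpqcDesc
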