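import Groth.Agent.Lib.Helper5.AlgSp.Cover
import Groth.Agent.Lib.Helper5.AlgSp.SepMor
import Groth.Agent.Lib.Helper5.AlgSp.Basic
import Mathlib

/-!
# Morphisms from an algebraic space to a scheme descend along fpqc base changes

`F` an algebraic space over `h_Z`, `c : Z' ⟶ Z` flat, surjective and quasi-compact, and the base
change `F ×_Z Z'` representable by `W'`.  A morphism `W' ⟶ V` to a scheme which coequalizes the
"equivalence relation" of `h_{W'} ⟶ F` descends to `F ⟶ h_V`.
-/

set_option autoImplicit false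

universe u

open CategoryTheory CategoryTheory.Limits AlgebraicGeometry Opposite

namespace Groth.Agent.H3.FpqcDesc

open _root_.AlgSp Groth.Agent.H5.AlgSp

variable {S : Scheme.{u}}

section

variable {Z Z' W' : Over S} (c : Z' ⟶ Z) (v : W' ⟶ Z') {F : Sp S}
  (π : F ⟶ (yon S).obj Z) (u : (yon S).obj W' ⟶ F)
  (sq : IsPullback u ((yon S).map v) π ((yon S).map c))

include sq in
/-- The base change of `u` along a map from a scheme is a base change of `c`. -/
lemma prop_of_isPullback {T T' : Over S} (t : (yon S).obj T ⟶ F) (σ : T' ⟶ W') (pr : T' ⟶ T)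
    (sqT : IsPullback ((yon S).map σ) ((yon S).map pr) u t) (P : MorphismProperty Scheme.{u})
    [P.IsStableUnderBaseChange] (hc : P c.left) : P pr.left := by
  obtain ⟨r, hr⟩ := (yon S).map_surjective (t ≫ π)
  have big : IsPullback ((yon S).map (σ ≫ v)) ((yon S).map pr) ((yon S).map c)
      ((yon S).map r) := by
    rw [Functor.map_comp, hr]
    exact sqT.paste_horiz sq.flip
  have big' : IsPullback (σ ≫ v) pr c r := by
    refine IsPullback.of_map (yon S) ?_ big
    apply (yon S).map_injective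
    rw [Functor.map_comp, Functor.map_comp]
    exact big.w
  exact P.of_isPullback (big'.map (Over.forget S)) hc

variable [Flat c.left] [Surjective c.left] [QuasiCompact c.left]

include sq in
lemma epi_of_isPullback {T T' : Over S} (t : (yon S).obj T ⟶ F) (σ : T' ⟶ W') (pr : T' ⟶ T)
    (sqT : IsPullback ((yon S).map σ) ((yon S).map pr) u t) :
    Flat pr.left ∧ Surjective pr.left ∧ QuasiCompact pr.left :=
  ⟨prop_of_isPullback c v π u sq t σ pr sqT @Flat inferInstance,
    prop_of_isPullback c v π u sq t σ pr sqT @Surjective inferInstance,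
    prop_of_isPullback c v π u sq t σ pr sqT @QuasiCompact inferInstance⟩

include sq in
/-- Uniqueness: two maps from `F` to a scheme which agree on `h_{W'}` are equal. -/
theorem hom_ext_of_fpqc (hF : IsAlgSpace F) {V : Over S} (g₁ g₂ : F ⟶ (yon S).obj V)
    (h : u ≫ g₁ = u ≫ g₂) : g₁ = g₂ := by
  apply hom_ext_yon
  intro T t
  have hu : Representable u := hF.representable_from_yon u
  obtain ⟨σ, hσ⟩ := (yon S).map_surjective (hu.fst t)
  have sqT : IsPullback ((yon S).map σ) ((yon S).map (hu.snd t)) u t := by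
    rw [hσ]; exact hu.isPullback t
  obtain ⟨hp1, hp2, hp3⟩ := epi_of_isPullback c v π u sq t σ (hu.snd t) sqT
  obtain ⟨e₁, he₁⟩ := (yon S).map_surjective (t ≫ g₁)
  obtain ⟨e₂, he₂⟩ := (yon S).map_surjective (t ≫ g₂)
  rw [← he₁, ← he₂]
  congr 1
  have key : hu.snd t ≫ e₁ = hu.snd t ≫ e₂ := by
    apply (yon S).map_injective
    rw [Functor.map_comp, Functor.map_comp, he₁, he₂, ← Category.assoc, ← Category.assoc,
      ← sqT.w, Category.assoc, Category.assoc, h]
  have hl : (hu.snd t).left ≫ e₁.left = (hu.snd t).left ≫ e₂.left :=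
    congrArg (fun m => m.left) key
  have : Epi (hu.snd t).left := inferInstance
  apply Over.OverMorphism.ext
  exact (cancel_epi _).1 hl

include sq in
/-- Existence: a map `W' ⟶ V` to a scheme which coequalizes the relation defined by
`u : h_{W'} ⟶ F` descends to `F`. -/
theorem exists_desc_of_fpqc (hF : IsAlgSpace F) {V : Over S} (w : W' ⟶ V)
    (hw : ∀ {T : Over S} (x₁ x₂ : T ⟶ W'),
      (yon S).map x₁ ≫ u = (yon S).map x₂ ≫ u → x₁ ≫ w = x₂ ≫ w) :
    ∃ g : F ⟶ (yon S).obj V, u ≫ g = (yon S).map w := by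
  have hu : Representable u := hF.representable_from_yon u
  obtain ⟨U, a, hae, has⟩ := hF.atlas
  -- `U' = U ×_F W'`
  obtain ⟨s, hs⟩ := (yon S).map_surjective (hu.fst a)
  set q := hu.snd a with hq
  have sqU : IsPullback ((yon S).map s) ((yon S).map q) u a := by
    rw [hs]; exact hu.isPullback a
  obtain ⟨hq1, hq2, hq3⟩ := epi_of_isPullback c v π u sq a s q sqU
  -- the map `U ⟶ V`
  have cond : ∀ {T₀ : Scheme.{u}} (g₁ g₂ : T₀ ⟶ (hu.pullback a).left),
      g₁ ≫ q.left = g₂ ≫ q.left → g₁ ≫ (s ≫ w).left = g₂ ≫ (s ≫ w).left := by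
    intro T₀ g₁ g₂ hg
    have hg2 : g₂ ≫ (hu.pullback a).hom = g₁ ≫ (hu.pullback a).hom := by
      rw [← Over.w q, ← Category.assoc, ← Category.assoc, hg]
    let G₁ : Over.mk (g₁ ≫ (hu.pullback a).hom) ⟶ hu.pullback a := Over.homMk g₁ rfl
    let G₂ : Over.mk (g₁ ≫ (hu.pullback a).hom) ⟶ hu.pullback a := Over.homMk g₂ hg2
    have hG : G₁ ≫ q = G₂ ≫ q := Over.OverMorphism.ext hg
    have h1 : (yon S).map (G₁ ≫ s) ≫ u = (yon S).map (G₂ ≫ s) ≫ u := by
      rw [Functor.map_comp, Functor.map_comp, Category.assoc, Category.assoc, sqU.w,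
        ← Category.assoc, ← Category.assoc, ← Functor.map_comp, ← Functor.map_comp, hG]
    have h2 := hw _ _ h1
    have h3 := congrArg (fun m => m.left) h2
    simp only [Over.comp_left, Category.assoc] at h3
    rw [Over.comp_left]
    exact h3
  have hepi : EffectiveEpi q.left := inferInstance
  let e₀ : U.left ⟶ V.left := EffectiveEpi.desc q.left (s ≫ w).left cond
  have he₀ : q.left ≫ e₀ = (s ≫ w).left := EffectiveEpi.fac _ _ _
  have he₀S : e₀ ≫ V.hom = U.hom := by
    have : Epi q.left := inferInstance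
    rw [← cancel_epi q.left, ← Category.assoc, he₀, Over.w, Over.w]
  let ē : U ⟶ V := Over.homMk e₀ he₀S
  have hē : q ≫ ē = s ≫ w := Over.OverMorphism.ext he₀
  -- descend along the atlas
  have : Sheaf.IsLocallySurjective a :=
    isLocallySurjective_of_repWith a (repWith_mono etale_le_flat hae)
      (repWith_mono etale_le_lfp hae) has
  have hepia : Epi a := inferInstance
  have : EffectiveEpi a :=
    (isRegularEpi_iff_effectiveEpi a).1 (IsRegularEpiCategory.regularEpiOfEpi a)
  have hcoeq : ∀ {G : Sp S} (g₁ g₂ : G ⟶ (yon S).obj U), g₁ ≫ a = g₂ ≫ a →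
      g₁ ≫ (yon S).map ē = g₂ ≫ (yon S).map ē := by
    intro G g₁ g₂ hg
    apply hom_ext_yon
    intro T x
    obtain ⟨t₁, ht₁⟩ := (yon S).map_surjective (x ≫ g₁)
    obtain ⟨t₂, ht₂⟩ := (yon S).map_surjective (x ≫ g₂)
    have hta : (yon S).map t₁ ≫ a = (yon S).map t₂ ≫ a := by
      rw [ht₁, ht₂, Category.assoc, Category.assoc, hg]
    rw [← Category.assoc, ← Category.assoc, ← ht₁, ← ht₂, ← Functor.map_comp, ← Functor.map_comp]
    congr 1
    set τ := (yon S).map t₁ ≫ a with hτ
    obtain ⟨σ, hσ⟩ := (yon S).map_surjective (hu.fst τ)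
    have sqT : IsPullback ((yon S).map σ) ((yon S).map (hu.snd τ)) u τ := by
      rw [hσ]; exact hu.isPullback τ
    obtain ⟨hp1, hp2, hp3⟩ := epi_of_isPullback c v π u sq τ σ (hu.snd τ) sqT
    have hw1 : (yon S).map σ ≫ u = (yon S).map (hu.snd τ ≫ t₁) ≫ a := by
      rw [sqT.w, Functor.map_comp, Category.assoc]
    have hw2 : (yon S).map σ ≫ u = (yon S).map (hu.snd τ ≫ t₂) ≫ a := by
      rw [sqT.w, Functor.map_comp, Category.assoc, ← hta]
    obtain ⟨l₁, hl₁⟩ := (yon S).map_surjective (sqU.lift _ _ hw1)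
    obtain ⟨l₂, hl₂⟩ := (yon S).map_surjective (sqU.lift _ _ hw2)
    have hl₁s : l₁ ≫ s = σ := by
      apply (yon S).map_injective; rw [Functor.map_comp, hl₁, sqU.lift_fst]
    have hl₁q : l₁ ≫ q = hu.snd τ ≫ t₁ := by
      apply (yon S).map_injective; rw [Functor.map_comp, hl₁, sqU.lift_snd]
    have hl₂s : l₂ ≫ s = σ := by
      apply (yon S).map_injective; rw [Functor.map_comp, hl₂, sqU.lift_fst]
    have hl₂q : l₂ ≫ q = hu.snd τ ≫ t₂ := by
      apply (yon S).map_injective; rw [Functor.map_comp, hl₂, sqU.lift_snd]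
    have key : hu.snd τ ≫ (t₁ ≫ ē) = hu.snd τ ≫ (t₂ ≫ ē) := by
      rw [← Category.assoc, ← hl₁q, ← Category.assoc, ← hl₂q, Category.assoc, Category.assoc, hē,
        ← Category.assoc, ← Category.assoc, hl₁s, hl₂s]
    have hl : (hu.snd τ).left ≫ (t₁ ≫ ē).left = (hu.snd τ).left ≫ (t₂ ≫ ē).left :=
      congrArg (fun m => m.left) key
    have : Epi (hu.snd τ).left := inferInstance
    apply Over.OverMorphism.ext
    exact (cancel_epi _).1 hl
  let g : F ⟶ (yon S).obj V := EffectiveEpi.desc a ((yon S).map ē) hcoeq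
  have hag : a ≫ g = (yon S).map ē := EffectiveEpi.fac _ _ _
  refine ⟨g, ?_⟩
  have : Sheaf.IsLocallySurjective ((yon S).map s) := isLocallySurjective_of_isPullback sqU.flip
  have : Epi ((yon S).map s) := inferInstance
  rw [← cancel_epi ((yon S).map s), ← Category.assoc, sqU.w, Category.assoc, hag,
    ← Functor.map_comp, hē, Functor.map_comp]

end

end Groth.Agent.H3.FpqcDesc
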