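import Groth.Agent.Lib.Helper5.Descent.QuasiAffineDescent
import Groth.Agent.Lib.Helper3.Desc.FpqcHomDesc
import Groth.Agent.Lib.Helper3.Desc.FpqcAffineRing
import Groth.Agent.Lib.Helper3.AlgSpCov.IsoBase
import Mathlib

/-!
# Effective fpqc descent for quasi-affine schemes over an algebraic space (helper3)

Port of helper5's `exists_descent_of_isQuasiAffine'` from fppf to fpqc coverings; the sheaf `F`
is assumed to be an algebraic space so that maps out of it descend along fpqc coverings.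
-/

set_option autoImplicit false

universe u

open CategoryTheory CategoryTheory.Limits AlgebraicGeometry Opposite TensorProduct
  Algebra.TensorProduct

namespace Groth.Agent.H3.FpqcDesc

open _root_.AlgSp Groth.Agent.H5.AlgSp Groth.Agent.H5.Descent Groth.Agent.H3.AlgSpCov

variable {S : Scheme.{u}}

variable {T T' W' : Over S} (c : T' ⟶ T) (v : W' ⟶ T') {F : Sp S}
  (π : F ⟶ (yon S).obj T) (u : (yon S).obj W' ⟶ F)

/-- **Effective fpqc descent for quasi-affine schemes** (algebraic space version): `T`, `T'`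
affine, `T' → T` flat surjective, `W'` quasi-affine. -/
theorem exists_descent_of_isQuasiAffine_fpqc [IsAffine T.left] [IsAffine T'.left]
    [W'.left.IsQuasiAffine] [Flat c.left] [Surjective c.left] (hF : IsAlgSpace F)
    (sq : IsPullback u ((yon S).map v) π ((yon S).map c)) :
    ∃ (W : Over S) (w : W ⟶ T) (e : (yon S).obj W ≅ F), e.hom ≫ π = (yon S).map w ∧
      W.left.IsQuasiAffine := by
  have hcqc : QuasiCompact c.left := by
    have : IsAffineHom c.left := isAffineHom_of_isAffine _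
    infer_instance
  let _ : Algebra Γ(T.left, ⊤) Γ(T'.left, ⊤) := (sharp c).toAlgebra
  let _ : Algebra Γ(T'.left, ⊤) Γ(W'.left, ⊤) := (sharp v).toAlgebra
  let _ : Algebra Γ(T.left, ⊤) Γ(W'.left, ⊤) := (sharp (v ≫ c)).toAlgebra
  obtain ⟨htower, θ, h1, h2, h3, hco⟩ := exists_coaction_of_isPullback c v π u sq
  have hflat : Module.Flat Γ(T.left, ⊤) Γ(T'.left, ⊤) :=
    (HasRingHomProperty.iff_of_isAffine (P := @Flat)).1 (inferInstanceAs (Flat c.left))
  have hbij := descMul_bijective θ h1 h2 h3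
  let M : Subalgebra Γ(T.left, ⊤) Γ(W'.left, ⊤) := descAlg θ
  -- the affine scheme `W̄ = Spec M` over `T`
  let φA : CommRingCat.of Γ(T.left, ⊤) ⟶ CommRingCat.of M :=
    CommRingCat.ofHom (algebraMap Γ(T.left, ⊤) M)
  let φM : CommRingCat.of M ⟶ Γ(W'.left, ⊤) := CommRingCat.ofHom M.val.toRingHom
  have hφ : φA ≫ φM = (v ≫ c).left.appTop := rfl
  let wbar₀ : Spec (.of M) ⟶ T.left := Spec.map φA ≫ T.left.isoSpec.inv
  let Wbar : Over S := Over.mk (wbar₀ ≫ T.hom)
  let wbar : Wbar ⟶ T := Over.homMk wbar₀ rfl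
  let κ₀ : W'.left ⟶ Spec (.of M) := W'.left.toSpecΓ ≫ Spec.map φM
  have hκ₀ : κ₀ ≫ wbar₀ = (v ≫ c).left := by
    change (W'.left.toSpecΓ ≫ Spec.map φM) ≫ Spec.map φA ≫ T.left.isoSpec.inv = _
    rw [Category.assoc, ← Category.assoc (Spec.map φM), ← Spec.map_comp, hφ,
      ← Scheme.toSpecΓ_naturality_assoc, Scheme.toSpecΓ_isoSpec_inv, Category.comp_id]
  let κ : W' ⟶ Wbar := Over.homMk κ₀ (by
    change κ₀ ≫ wbar₀ ≫ T.hom = W'.hom
    rw [← Category.assoc, hκ₀, Over.w])
  have hκw : κ ≫ wbar = v ≫ c := by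
    ext
    exact hκ₀
  -- the map `F ⟶ h_{W̄}`
  have hκx : ∀ {Z : Over S} (x₁ x₂ : Z ⟶ W'),
      (yon S).map x₁ ≫ u = (yon S).map x₂ ≫ u → x₁ ≫ κ = x₂ ≫ κ := by
    intro Z x₁ x₂ hu
    ext
    change x₁.left ≫ W'.left.toSpecΓ ≫ Spec.map φM = x₂.left ≫ W'.left.toSpecΓ ≫ Spec.map φM
    rw [Scheme.toSpecΓ_naturality_assoc, Scheme.toSpecΓ_naturality_assoc, ← Spec.map_comp,
      ← Spec.map_comp]
    congr 2
    ext m
    exact hco x₁ x₂ hu m.1 m.2
  obtain ⟨g, hug⟩ := exists_desc_of_fpqc c v π u sq hF κ hκx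
  have hgπ : g ≫ (yon S).map wbar = π := by
    apply hom_ext_of_fpqc c v π u sq hF
    rw [← Category.assoc, hug, sq.w, ← Functor.map_comp, ← Functor.map_comp, hκw]
  -- `W̄' = T' ×_T W̄` and `j : W' ⟶ W̄'`
  have sqWb := IsPullback.of_hasPullback c wbar
  set p₁ := pullback.fst c wbar with hp₁
  set p₂ := pullback.snd c wbar with hp₂
  let j : W' ⟶ pullback c wbar := pullback.lift v κ hκw.symm
  have hj1 : j ≫ p₁ = v := pullback.lift_fst _ _ _
  have hj2 : j ≫ p₂ = κ := pullback.lift_snd _ _ _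
  have sqTop : IsPullback u ((yon S).map j) g ((yon S).map p₂) := by
    refine IsPullback.of_bot (v₂₁ := (yon S).map p₁) (v₂₂ := (yon S).map wbar)
      (h₃₁ := (yon S).map c) ?_ ?_ (sqWb.map (yon S)).flip
    · rw [hgπ, ← Functor.map_comp, hj1]
      exact sq
    · rw [hug, ← Functor.map_comp, hj2]
  -- `j` is an open immersion
  have hWbaff : IsAffine Wbar.left := inferInstanceAs (IsAffine (Spec (.of M)))
  have hp₂aff : IsAffineHom p₂.left := by
    rw [hp₂, left_pullback_snd_iff @IsAffineHom]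
    exact MorphismProperty.pullback_snd (P := @IsAffineHom) _ _ inferInstance
  have hWb'aff : IsAffine (pullback c wbar).left := isAffine_of_isAffineHom p₂.left
  let _ : Algebra Γ(T.left, ⊤) Γ(Wbar.left, ⊤) := (sharp wbar).toAlgebra
  obtain ⟨ψ, hψ⟩ := exists_ringEquiv_of_isPullback sqWb.flip rfl rfl
  -- identification `M ≃ Γ(W̄)`
  have I1 : wbar₀.appTop = φA ≫ (Scheme.ΓSpecIso (.of M)).inv := by
    change (Spec.map φA ≫ T.left.isoSpec.inv).appTop = _
    rw [Scheme.Hom.comp_appTop, isoSpec_inv_appTop', Scheme.ΓSpecIso_inv_naturality]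
    rfl
  have I2 : (Scheme.ΓSpecIso (.of M)).inv ≫ κ₀.appTop = φM := by
    change _ ≫ (W'.left.toSpecΓ ≫ Spec.map φM).appTop = _
    rw [Scheme.Hom.comp_appTop, Scheme.toSpecΓ_appTop, ← Category.assoc,
      ← Scheme.ΓSpecIso_inv_naturality, Category.assoc, Iso.inv_hom_id, Category.comp_id]
  let γ₀ : M ≃+* Γ(Wbar.left, ⊤) := (Scheme.ΓSpecIso (.of M)).symm.commRingCatIsoToRingEquiv
  have hγ₀ : ∀ m, γ₀ m = (Scheme.ΓSpecIso (.of M)).inv.hom m := fun m => rfl
  let γ : M ≃ₐ[Γ(T.left, ⊤)] Γ(Wbar.left, ⊤) :=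
    { γ₀ with
      commutes' := fun r => by
        change γ₀ (algebraMap Γ(T.left, ⊤) M r) = sharp wbar r
        rw [hγ₀]
        have := congrArg (fun φ => φ.hom r) I1
        exact this.symm }
  have hκγ : ∀ m : M, sharp κ (γ m) = (m : Γ(W'.left, ⊤)) := fun m => by
    have := congrArg (fun φ => φ.hom m) I2
    exact this
  let Ψ : Γ(T'.left, ⊤) ⊗[Γ(T.left, ⊤)] M ≃ₐ[Γ(T.left, ⊤)]
      Γ(T'.left, ⊤) ⊗[Γ(T.left, ⊤)] Γ(Wbar.left, ⊤) :=
    Algebra.TensorProduct.congr AlgEquiv.refl γ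
  have hΨ : ∀ a m, Ψ (a ⊗ₜ m) = a ⊗ₜ γ m := fun a m => rfl
  have hjΨ : ∀ z, sharp j (ψ (Ψ z)) = descMul θ z := by
    intro z
    induction z using TensorProduct.induction_on with
    | zero => simp
    | tmul a m =>
      rw [hΨ, hψ, map_mul, ← sharp_comp_apply, ← sharp_comp_apply, hj1, hj2, hκγ, descMul_tmul]
      rfl
    | add x y hx hy => simp only [map_add, hx, hy]
  have hjbij : Function.Bijective (sharp j) := by
    have h0 : (sharp j : _ → _) = (descMul θ) ∘ Ψ.symm ∘ ψ.symm := by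
      funext y
      obtain ⟨z, rfl⟩ := ψ.surjective y
      obtain ⟨z', rfl⟩ := Ψ.surjective z
      simp only [Function.comp_apply, RingEquiv.symm_apply_apply, AlgEquiv.symm_apply_apply]
      exact hjΨ z'
    rw [h0]
    exact hbij.comp (Ψ.symm.bijective.comp ψ.symm.bijective)
  have hjiso : IsIso j.left.appTop :=
    (ConcreteCategory.isIso_iff_bijective j.left.appTop).2 hjbij
  have hjopen : IsOpenImmersion j.left := by
    have hnat := Scheme.toSpecΓ_naturality j.left
    have h1 : IsOpenImmersion (j.left ≫ (pullback c wbar).left.toSpecΓ) := by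
      rw [hnat]
      infer_instance
    exact IsOpenImmersion.of_comp j.left (pullback c wbar).left.toSpecΓ
  -- descend the open immersion
  have hp₂1 : Flat p₂.left := by
    rw [hp₂, left_pullback_snd_iff @Flat]
    exact MorphismProperty.pullback_snd (P := @Flat) _ _ inferInstance
  have hp₂2 : QuasiCompact p₂.left := by
    rw [hp₂, left_pullback_snd_iff @QuasiCompact]
    exact MorphismProperty.pullback_snd (P := @QuasiCompact) _ _ hcqc
  have hp₂3 : Surjective p₂.left := by
    rw [hp₂, left_pullback_snd_iff @Surjective]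
    exact MorphismProperty.pullback_snd (P := @Surjective) _ _ inferInstance
  have hgopen : RepWith @IsOpenImmersion g :=
    (isLocalOnBase_fpqc_isOpenImmersion (fun _ : PUnit.{u + 1} => (yon S).obj (pullback c wbar))
      (fun _ => (yon S).map p₂) (IsAlgSpace.yon_obj _) (fun _ => IsAlgSpace.yon_obj _)
      (isFpqcCover_single_yon_map p₂ hp₂1 hp₂3 hp₂2) g hF (fun _ => (yon S).obj W')
      (fun _ => (yon S).map j) (fun _ => u) (fun _ => IsAlgSpace.yon_obj _)
      (fun _ => sqTop)).2 (fun _ => (repWith_yon_map_iff @IsOpenImmersion _).2 hjopen)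
  have sqZ := hgopen.rep.isPullback (𝟙 ((yon S).obj Wbar))
  have : IsIso (hgopen.rep.fst (𝟙 ((yon S).obj Wbar))) := sqZ.isIso_fst_of_isIso
  refine ⟨_, hgopen.rep.snd (𝟙 ((yon S).obj Wbar)) ≫ wbar,
    asIso (hgopen.rep.fst (𝟙 ((yon S).obj Wbar))), ?_, ?_⟩
  · rw [asIso_hom, ← hgπ, ← Category.assoc, sqZ.w, Category.comp_id, Functor.map_comp]
  -- the descended scheme is quasi-affine
  set j₀ := hgopen.rep.snd (𝟙 ((yon S).obj Wbar)) with hj₀
  set fst₀ := hgopen.rep.fst (𝟙 ((yon S).obj Wbar)) with hfst₀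
  have hj₀open : IsOpenImmersion j₀.left := hgopen.property_snd _
  have hg' : g = inv fst₀ ≫ (yon S).map j₀ := by
    rw [IsIso.eq_inv_comp, sqZ.w, Category.comp_id]
  obtain ⟨w', hw'⟩ := (yon S).map_surjective (u ≫ inv fst₀)
  have sqW : IsPullback ((yon S).map w') ((yon S).map j) ((yon S).map j₀) ((yon S).map p₂) := by
    rw [hw']
    have := sqTop
    rw [hg'] at this
    exact IsPullback.of_iso this (Iso.refl _) (asIso fst₀).symm (Iso.refl _) (Iso.refl _)
      (by simp) (by simp) (by simp) (by simp)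
  have sqW' : IsPullback w' j j₀ p₂ := IsPullback.of_map_of_faithful (yon S) sqW
  have sqWS : IsPullback w'.left j.left j₀.left p₂.left := sqW'.map (Over.forget S)
  have hw'surj : Surjective w'.left :=
    MorphismProperty.of_isPullback (P := @Surjective) sqWS.flip hp₂3
  have : CompactSpace ↥W'.left := inferInstance
  have : CompactSpace ↥(hgopen.rep.pullback (𝟙 ((yon S).obj Wbar))).left :=
    Function.Surjective.compactSpace w'.left.continuous w'.left.surjective
  have : Wbar.left.IsQuasiAffine := inferInstance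
  exact Scheme.IsQuasiAffine.of_isImmersion j₀.left

end Groth.Agent.H3.FpqcDesc
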